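import Groth.Prelude.Def_Koszul
import Groth.Agent.KGrp.Euler
import Groth.Agent.DRingPC.Perfect
import Groth.Agent.DRingPC.Rel
import Mathlib.RingTheory.Regular.RegularSequence
import Mathlib.RingTheory.Ideal.AssociatedPrime.Finiteness
import Mathlib.RingTheory.Support
import Mathlib.Algebra.Homology.DerivedCategory.Linear

/-!
The Koszul complex generates `K₀` of perfect complexes supported at the closed point.
-/

set_option autoImplicit false
set_option linter.style.haveILetI false
universe u

open CategoryTheory CategoryTheory.Limits CategoryTheory.Pretriangulated Groth.Agent.KGrp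

attribute [local instance] HasDerivedCategory.standard

namespace Groth.Agent.K0Koszul

variable {R : Type u} [CommRing R]

/-- A quotient ring in degree zero. -/
noncomputable abbrev quotD (I : Ideal R) : Dual.D R :=
  (DerivedCategory.singleFunctor (ModuleCat.{u} R) 0).obj (ModuleCat.of R (R ⧸ I))

lemma nonempty_koszul_iso : ∀ l : List R, RingTheory.Sequence.IsWeaklyRegular R l.reverse →
    Nonempty (DRing.toD (Koszul.koszul R l) ≅ quotD (Ideal.ofList l)) := by
  intro l
  induction l with
  | nil =>
    intro _
    exact ⟨((DerivedCategory.singleFunctorIsoCompQ (ModuleCat.{u} R) 0).app _).symm ≪≫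
      (DerivedCategory.singleFunctor _ 0).mapIso ((Submodule.quotEquivOfEqBot _
        Ideal.ofList_nil).symm.toModuleIso)⟩
  | cons f t ih =>
    intro h
    rw [List.reverse_cons, RingTheory.Sequence.isWeaklyRegular_append_iff,
      RingTheory.Sequence.isWeaklyRegular_cons_iff] at h
    obtain ⟨h1, hf, -⟩ := h
    obtain ⟨e⟩ := ih h1
    have hI : (Ideal.ofList t.reverse • ⊤ : Submodule R R) = Ideal.ofList t := by
      rw [smul_eq_mul, Ideal.mul_top]
      exact congrArg Ideal.span (Set.ext fun x => List.mem_reverse)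
    have hreg : IsSMulRegular (R ⧸ Ideal.ofList t) f :=
      ((Submodule.quotEquivOfEq _ _ hI).isSMulRegular_congr f).1 hf
    have hle : Ideal.ofList t ≤ Ideal.ofList (f :: t) := by rw [Ideal.ofList_cons]; exact le_sup_right
    let M := ModuleCat.of R (R ⧸ Ideal.ofList t)
    let π : M ⟶ ModuleCat.of R (R ⧸ Ideal.ofList (f :: t)) := ModuleCat.ofHom (Submodule.factor hle)
    have hf0 : f ∈ Ideal.ofList (f :: t) := Ideal.subset_span List.mem_cons_self
    have hz : (f • 𝟙 M) ≫ π = 0 := by
      refine ModuleCat.hom_ext (LinearMap.ext fun x => ?_)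
      obtain ⟨r, rfl⟩ := Submodule.Quotient.mk_surjective _ x
      show Submodule.factor hle (f • Submodule.Quotient.mk r) = 0
      rw [← Submodule.Quotient.mk_smul]
      exact (Submodule.Quotient.mk_eq_zero _).2 (Ideal.mul_mem_right r _ hf0)
    let S := ShortComplex.mk (f • 𝟙 M) π hz
    have hS : S.ShortExact :=
      { mono_f := (ModuleCat.mono_iff_injective _).2 hreg
        epi_g := (ModuleCat.epi_iff_surjective _).2 (Submodule.factor_surjective hle)
        exact := (ShortComplex.ShortExact.moduleCat_exact_iff_function_exact S).2 fun y => by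
          constructor
          · intro hy
            obtain ⟨r, rfl⟩ := Submodule.Quotient.mk_surjective _ y
            have hr : r ∈ Ideal.ofList (f :: t) := (Submodule.Quotient.mk_eq_zero _).1 hy
            rw [Ideal.ofList_cons, Submodule.mem_sup] at hr
            obtain ⟨a, ha, b, hb, rfl⟩ := hr
            obtain ⟨c, rfl⟩ := Ideal.mem_span_singleton'.1 ha
            refine ⟨Submodule.Quotient.mk c, ?_⟩
            show f • (Submodule.Quotient.mk c : R ⧸ Ideal.ofList t) = _
            rw [← Submodule.Quotient.mk_smul]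
            refine (Submodule.Quotient.eq _).2 ?_
            rw [smul_eq_mul, mul_comm f c, sub_add_cancel_left]
            exact neg_mem hb
          · rintro ⟨x, rfl⟩
            exact LinearMap.congr_fun (ModuleCat.hom_ext_iff.1 hz) x }
    let φ : Koszul.koszul R t ⟶ Koszul.koszul R t := f • 𝟙 _
    have hsq : DerivedCategory.Q.map φ ≫ e.hom =
        e.hom ≫ (DerivedCategory.singleFunctor (ModuleCat.{u} R) 0).map (f • 𝟙 M) := by
      rw [Functor.map_smul, Functor.map_smul, CategoryTheory.Functor.map_id,
        CategoryTheory.Functor.map_id, Linear.smul_comp, Linear.comp_smul]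
      exact congrArg (f • ·) ((Category.id_comp e.hom).trans (Category.comp_id e.hom).symm)
    exact ⟨Triangle.π₃.mapIso (isoTriangleOfIso₁₂ _ _
      (DerivedCategory.mappingCone_triangle_distinguished φ) hS.singleTriangle_distinguished e e hsq)⟩

/-- Finite modules supported at the closed point. -/
def PFL (R : Type u) [CommRing R] [IsLocalRing R] : ObjectProperty (ModuleCat.{u} R) := fun M =>
  Module.Finite R M ∧ Module.support R M ⊆ {IsLocalRing.closedPoint R}

variable [IsNoetherianRing R] [IsLocalRing R]

instance : (PFL R).IsClosedUnderIsomorphisms :=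
  ⟨fun {M N} e h => by
    haveI := h.1
    exact ⟨Module.Finite.equiv e.toLinearEquiv, e.toLinearEquiv.support_eq ▸ h.2⟩⟩

instance : (PFL R).ContainsZero :=
  ⟨⟨ModuleCat.of R PUnit, ModuleCat.isZero_of_subsingleton _, inferInstance, by
    rw [Module.support_eq_empty]; exact Set.empty_subset _⟩⟩

instance : (PFL R).IsClosedUnderKernels := by
  refine ⟨?_⟩
  rintro _ ⟨f, k, hk, hM, -⟩
  haveI := hM.1
  have hinj : Function.Injective (Fork.ι k).hom :=
    (ModuleCat.mono_iff_injective _).1 (mono_of_isLimit_fork hk)
  exact ⟨Module.Finite.of_injective _ hinj, (Module.support_subset_of_injective _ hinj).trans hM.2⟩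

omit [IsNoetherianRing R] in
lemma subsingleton_of_mem_PFL_prime {N : Type u} [AddCommGroup N] [Module R N]
    (p : PrimeSpectrum R) (e : N ≃ₗ[R] R ⧸ p.1) (h : Module.support R N ⊆ {IsLocalRing.closedPoint R}) :
    p = IsLocalRing.closedPoint R := by
  refine h ?_
  rw [e.support_eq, Module.support_eq_zeroLocus, Ideal.annihilator_quotient]
  exact le_refl p.1

lemma isPerfectModule_of_isPerfect {K : Dual.D R} (h : DRing.IsPerfect R K) :
    (∀ i : ℤ, Module.Finite R (Dual.HD R K i)) ∧ ∃ a b : ℤ, K.IsGE a ∧ K.IsLE b := by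
  obtain ⟨E, a, b, hz, hE, ⟨e⟩⟩ := h
  have he : ∀ i, Nonempty (E.homology i ≅ (DerivedCategory.homologyFunctor (ModuleCat.{u} R) i).obj K) := fun i =>
    ⟨(PCohLib.homologyQIso E i).symm ≪≫ (DerivedCategory.homologyFunctor _ i).mapIso e⟩
  refine ⟨fun i => ?_, a, b, (DerivedCategory.isGE_iff _ _).2 fun i hi => ?_,
    (DerivedCategory.isLE_iff _ _).2 fun i hi => ?_⟩
  · obtain ⟨e'⟩ := he i
    haveI : Module.Finite R (E.sc i).X₂ := (hE i).1
    haveI : IsNoetherian R (E.sc i).X₂ := isNoetherian_of_isNoetherianRing_of_finite R _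
    haveI : Module.Finite R (E.sc i).moduleCatLeftHomologyData.K :=
      Module.Finite.of_injective _
        ((ModuleCat.mono_iff_injective (E.sc i).moduleCatLeftHomologyData.i).1 inferInstance)
    haveI : Module.Finite R (E.sc i).moduleCatLeftHomologyData.H :=
      Module.Finite.of_surjective _
        ((ModuleCat.epi_iff_surjective (E.sc i).moduleCatLeftHomologyData.π).1 inferInstance)
    exact Module.Finite.equiv
      (((E.sc i).moduleCatHomologyIso).symm ≪≫ e').toLinearEquiv
  · obtain ⟨e'⟩ := he i
    exact (((HomologicalComplex.exactAt_iff_isZero_homology _ _).1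
      (ShortComplex.exact_of_isZero_X₂ _ (hz i (Or.inl hi))))).of_iso e'.symm
  · obtain ⟨e'⟩ := he i
    exact (((HomologicalComplex.exactAt_iff_isZero_homology _ _).1
      (ShortComplex.exact_of_isZero_X₂ _ (hz i (Or.inr hi))))).of_iso e'.symm

theorem closure_koszul_eq_top (fs : List R) (hreg : RingTheory.Sequence.IsRegular R fs)
    (hgen : Ideal.ofList fs = IsLocalRing.maximalIdeal R) :
    AddSubgroup.closure
        {KZero.clTr (fun K : Dual.D R => DRing.IsPerfect R K ∧
            ∀ i : ℤ, Module.support R (Dual.HD R K i) ⊆ {IsLocalRing.closedPoint R})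
          (DRing.toD (Koszul.koszul R fs))} = ⊤ := by
  obtain ⟨ek⟩ := nonempty_koszul_iso fs
    (IsLocalRing.isRegular_of_perm hreg (List.reverse_perm fs).symm).toIsWeaklyRegular
  rw [hgen] at ek
  let k := ModuleCat.of R (R ⧸ IsLocalRing.maximalIdeal R)
  have hk : DRing.IsPerfectModule R k := by
    have h1 : ∀ l : List R, DRing.IsPerfect R (DRing.toD (Koszul.koszul R l)) := fun l => by
      induction l with
      | nil =>
        exact DRingPC.isPerfect_of_iso (K := Dual.inD R R)
          ⟨(CochainComplex.singleFunctor (ModuleCat.{u} R) 0).obj (ModuleCat.of R R), 0, 0,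
            fun i hi => HomologicalComplex.isZero_single_obj_X _ _ _ _ (by omega),
            fun i => by
              by_cases hi : i = 0
              · subst hi
                exact (DRingPC.FPj R).prop_of_iso (HomologicalComplex.singleObjXSelf _ _ _).symm
                  ⟨Module.Finite.self R, inferInstance⟩
              · exact (DRingPC.FPj R).prop_of_isZero (HomologicalComplex.isZero_single_obj_X _ _ _ _ hi),
            ⟨((DerivedCategory.singleFunctorIsoCompQ (ModuleCat.{u} R) 0).app _).symm⟩⟩
          ((DerivedCategory.singleFunctorIsoCompQ (ModuleCat.{u} R) 0).app _)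
      | cons f t ih =>
        exact DRingPC.isPerfect_triangle₃
          (DerivedCategory.mappingCone_triangle_distinguished (f • 𝟙 (Koszul.koszul R t))) ih ih
    exact DRingPC.isPerfect_of_iso (h1 fs) ek
  have hperf : ∀ M : ModuleCat.{u} R, PFL R M → DRing.IsPerfectModule R M := by
    suffices ∀ (N : Type u) [AddCommGroup N] [Module R N] [Module.Finite R N],
        Module.support R N ⊆ {IsLocalRing.closedPoint R} → DRing.IsPerfectModule R N from
      fun M hM => @this M _ _ hM.1 hM.2
    intro N _ _ hfin
    refine IsNoetherianRing.induction_on_isQuotientEquivQuotientPrime (A := R) hfin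
      (motive := fun N _ _ _ => Module.support R N ⊆ {IsLocalRing.closedPoint R} →
        DRing.IsPerfectModule R N) ?_ ?_ ?_
    · intro N _ _ _ _ _
      exact DRingPC.isPerfect_of_isZero (Functor.map_isZero _ (ModuleCat.isZero_of_subsingleton _))
    · intro N _ _ _ p e hN
      obtain rfl := subsingleton_of_mem_PFL_prime p e hN
      exact DRingPC.isPerfect_of_iso hk
        ((DerivedCategory.singleFunctor _ 0).mapIso e.symm.toModuleIso)
    · intro N₁ _ _ _ N₂ _ _ _ N₃ _ _ _ f g hf hg hex h₁ h₃ hN
      rw [Module.support_of_exact hex hf hg, Set.union_subset_iff] at hN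
      let S := ShortComplex.mk (ModuleCat.ofHom f) (ModuleCat.ofHom g)
        (ModuleCat.hom_ext (LinearMap.ext hex.apply_apply_eq_zero))
      have hS : S.ShortExact :=
        { mono_f := (ModuleCat.mono_iff_injective _).2 hf
          epi_g := (ModuleCat.epi_iff_surjective _).2 hg
          exact := (ShortComplex.ShortExact.moduleCat_exact_iff_function_exact S).2 hex }
      exact DRingPC.isPerfect_triangle₂ hS.singleTriangle_distinguished (h₁ hN.1) (h₃ hN.2)
  have hQ : (fun K : Dual.D R => DRing.IsPerfect R K ∧
      ∀ i : ℤ, Module.support R (Dual.HD R K i) ⊆ {IsLocalRing.closedPoint R}) = DbP (PFL R) := by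
    funext K
    refine propext ⟨fun ⟨h, hs⟩ => ?_, fun ⟨h, a, b, ha, hb⟩ => ?_⟩
    · obtain ⟨hf, hab⟩ := isPerfectModule_of_isPerfect h
      exact ⟨fun i => ⟨hf i, hs i⟩, hab⟩
    · haveI := hb
      exact ⟨DRingPC.isPerfect_of_homology K a b (fun i hi => K.isZero_of_isGE a i hi)
        (fun i => hperf _ (h i)), fun i => (h i).2⟩
  rw [hQ, eq_top_iff]
  set G := AddSubgroup.closure {KZero.clTr (DbP (PFL R)) (DRing.toD (Koszul.koszul R fs))}
  have hkP : PFL R k := ⟨inferInstance, by
    rw [Module.support_eq_zeroLocus, Ideal.annihilator_quotient]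
    intro q hq
    exact Set.mem_singleton_iff.2 (PrimeSpectrum.ext
      (IsLocalRing.eq_maximalIdeal ((IsLocalRing.maximalIdeal.isMaximal R).eq_of_le
        q.2.ne_top hq ▸ IsLocalRing.maximalIdeal.isMaximal R)))⟩
  have key : ∀ (N : Type u) [AddCommGroup N] [Module R N] [Module.Finite R N],
      Module.support R N ⊆ {IsLocalRing.closedPoint R} →
      KZero.clTr (DbP (PFL R)) (Dual.inD R N) ∈ G := by
    intro N _ _ hfin
    refine IsNoetherianRing.induction_on_isQuotientEquivQuotientPrime (A := R) hfin
      (motive := fun N _ _ _ => Module.support R N ⊆ {IsLocalRing.closedPoint R} →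
        KZero.clTr (DbP (PFL R)) (Dual.inD R N) ∈ G) ?_ ?_ ?_
    · intro N _ _ _ _ hN
      rw [clTr_eq_zero (dbP_single (PFL R) (X := ModuleCat.of R N) ⟨inferInstance, hN⟩ 0)
        (Functor.map_isZero _ (ModuleCat.isZero_of_subsingleton _))]
      exact zero_mem _
    · intro N _ _ _ p e hN
      obtain rfl := subsingleton_of_mem_PFL_prime p e hN
      rw [clTr_dbP_congr (PFL R) (dbP_single (PFL R) (X := ModuleCat.of R N) ⟨inferInstance, hN⟩ 0)
        ((DerivedCategory.singleFunctor _ 0).mapIso e.toModuleIso ≪≫ ek.symm)]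
      exact AddSubgroup.subset_closure rfl
    · intro N₁ _ _ _ N₂ _ _ _ N₃ _ _ _ f g hf hg hex h₁ h₃ hN
      have hN' := hN
      rw [Module.support_of_exact hex hf hg, Set.union_subset_iff] at hN'
      let S := ShortComplex.mk (ModuleCat.ofHom f) (ModuleCat.ofHom g)
        (ModuleCat.hom_ext (LinearMap.ext hex.apply_apply_eq_zero))
      have hS : S.ShortExact :=
        { mono_f := (ModuleCat.mono_iff_injective _).2 hf
          epi_g := (ModuleCat.epi_iff_surjective _).2 hg
          exact := (ShortComplex.ShortExact.moduleCat_exact_iff_function_exact S).2 hex }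
      have hadd := clTr_add (P := DbP (PFL R)) hS.singleTriangle_distinguished
        (dbP_single (PFL R) (X := S.X₁) ⟨inferInstanceAs (Module.Finite R N₁), hN'.1⟩ 0)
        (dbP_single (PFL R) (X := S.X₂) ⟨inferInstanceAs (Module.Finite R N₂), hN⟩ 0)
        (dbP_single (PFL R) (X := S.X₃) ⟨inferInstanceAs (Module.Finite R N₃), hN'.2⟩ 0)
      show KZero.clTr (DbP (PFL R)) hS.singleTriangle.obj₂ ∈ G
      rw [hadd]
      exact add_mem (h₁ hN'.1) (h₃ hN'.2)
  rintro x -
  obtain ⟨y, rfl⟩ := toDb_surjective (PFL R) x
  induction y using induction_sub with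
  | h0 => rw [map_zero]; exact zero_mem _
  | hcl M hM =>
    rw [toDb_clSub _ hM]
    exact @key M _ _ hM.1 hM.2
  | hneg z hz => rw [map_neg]; exact neg_mem hz
  | hadd z w hz hw => rw [map_add]; exact add_mem hz hw

end Groth.Agent.K0Koszul
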